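import Mathlib

/-!
# Equivariant splittings of `0 → V → S²V → Λ²V → 0` over `𝔽₂`
-/

set_option autoImplicit false

universe u v

open scoped TensorProduct

namespace Groth.Agent.H18Sym2

variable (V : Type v) [AddCommGroup V] [Module (ZMod 2) V]

abbrev NA : Submodule (ZMod 2) (V ⊗[ZMod 2] V) :=
  Submodule.span (ZMod 2) (Set.range fun v : V => v ⊗ₜ[ZMod 2] v)

abbrev NS : Submodule (ZMod 2) (V ⊗[ZMod 2] V) :=
  Submodule.span (ZMod 2) (Set.range fun p : V × V => p.1 ⊗ₜ[ZMod 2] p.2 + p.2 ⊗ₜ[ZMod 2] p.1)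

variable {V}

theorem exists_sq_of_mem_NA {a : V ⊗[ZMod 2] V} (ha : a ∈ NA V) : ∃ w : V, a - w ⊗ₜ w ∈ NS V := by
  induction ha using Submodule.span_induction with
  | mem x hx => obtain ⟨v, rfl⟩ := hx; exact ⟨v, by simp⟩
  | zero => exact ⟨0, by simp⟩
  | add x y _ _ hx hy =>
    obtain ⟨a, ha⟩ := hx
    obtain ⟨b, hb⟩ := hy
    refine ⟨a + b, ?_⟩
    have h := sub_mem (add_mem ha hb) (Submodule.subset_span (R := ZMod 2) ⟨(a, b), rfl⟩)
    convert h using 1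
    simp only [TensorProduct.add_tmul, TensorProduct.tmul_add]
    abel
  | smul c x _ hx =>
    obtain ⟨a, ha⟩ := hx
    refine ⟨c • a, ?_⟩
    have hc : ∀ d : ZMod 2, d * d = d := by decide
    rw [TensorProduct.smul_tmul_smul, hc, ← smul_sub]
    exact Submodule.smul_mem _ _ ha

theorem exists_splitting {G : Type u} [Group G] (ρ : Representation (ZMod 2) G V)
    (B : V →ₗ[ZMod 2] V →ₗ[ZMod 2] V) (hsymm : ∀ x y, B x y = B y x) (hdiag : ∀ x, B x x = x)
    (heq : ∀ g x y, B (ρ g x) (ρ g y) = ρ g (B x y)) :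
    ∃ W : Submodule (ZMod 2) (V ⊗[ZMod 2] V),
      (∀ g : G, ∀ w ∈ W, ρ.tprod ρ g w ∈ W) ∧ W ⊓ NA V = NS V ∧ W ⊔ NA V = ⊤ := by
  set P := TensorProduct.lift B with hP
  have hPt : ∀ x y, P (x ⊗ₜ y) = B x y := fun x y => rfl
  refine ⟨LinearMap.ker P, fun g w hw => ?_, le_antisymm ?_ ?_, ?_⟩
  · rw [LinearMap.mem_ker] at hw ⊢
    have : P ∘ₗ ρ.tprod ρ g = ρ g ∘ₗ P := TensorProduct.ext' fun x y => heq g x y
    have h := LinearMap.congr_fun this w
    rw [LinearMap.comp_apply, LinearMap.comp_apply, hw, map_zero] at h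
    exact h
  · rintro a ⟨ha, ha'⟩
    obtain ⟨w, hw⟩ := exists_sq_of_mem_NA ha'
    have hNS : NS V ≤ LinearMap.ker P := by
      rw [Submodule.span_le]
      rintro _ ⟨⟨x, y⟩, rfl⟩
      simp only [SetLike.mem_coe, LinearMap.mem_ker, map_add, hPt, hsymm y x]
      exact ZModModule.add_self _
    have h0 : w = 0 := by
      have h1 : P (a - w ⊗ₜ w) = 0 := hNS hw
      rw [map_sub, LinearMap.mem_ker.mp ha, hPt, hdiag, zero_sub, neg_eq_zero] at h1
      exact h1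
    simpa [h0] using hw
  · rw [Submodule.span_le]
    rintro _ ⟨⟨x, y⟩, rfl⟩
    refine ⟨?_, ?_⟩
    · simp only [SetLike.mem_coe, LinearMap.mem_ker, map_add, hPt, hsymm y x]
      exact ZModModule.add_self _
    · have h1 : (x + y) ⊗ₜ[ZMod 2] (x + y) - x ⊗ₜ x - y ⊗ₜ y ∈ NA V :=
        sub_mem (sub_mem (Submodule.subset_span ⟨_, rfl⟩) (Submodule.subset_span ⟨_, rfl⟩))
          (Submodule.subset_span ⟨_, rfl⟩)
      show x ⊗ₜ[ZMod 2] y + y ⊗ₜ x ∈ NA V
      convert h1 using 1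
      simp only [TensorProduct.add_tmul, TensorProduct.tmul_add]
      abel
  · rw [eq_top_iff]
    intro a _
    refine Submodule.mem_sup.mpr ⟨a - (P a) ⊗ₜ (P a), ?_, _, Submodule.subset_span ⟨P a, rfl⟩, sub_add_cancel _ _⟩
    rw [LinearMap.mem_ker, map_sub, hPt, hdiag, sub_self]

def b2 (a b : Fin 2 → ZMod 2) : Fin 2 → ZMod 2 :=
  if a = 0 ∨ b = 0 then 0 else if a = b then a else a + b

theorem b2_add : ∀ a a' b : Fin 2 → ZMod 2, b2 (a + a') b = b2 a b + b2 a' b := by decide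

theorem b2_comm : ∀ a b : Fin 2 → ZMod 2, b2 a b = b2 b a := by decide

theorem exists_bilin_of_finrank_two (hV : Module.finrank (ZMod 2) V = 2) :
    ∃ B : V →ₗ[ZMod 2] V →ₗ[ZMod 2] V, (∀ x y, B x y = B y x) ∧ (∀ x, B x x = x) ∧
      ∀ (f : V ≃ₗ[ZMod 2] V) (x y : V), B (f x) (f y) = f (B x y) := by
  classical
  haveI : Module.Finite (ZMod 2) V := Module.finite_of_finrank_pos (by omega)
  let e := (Module.finBasisOfFinrankEq (ZMod 2) V hV).equivFun
  let β : V → V → V := fun x y => if x = 0 ∨ y = 0 then 0 else if x = y then x else x + y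
  have he : ∀ x y, e (β x y) = b2 (e x) (e y) := fun x y => by
    simp only [β, b2, e.map_eq_zero_iff, e.injective.eq_iff]
    split_ifs <;> simp
  have hadd : ∀ x x' y, β (x + x') y = β x y + β x' y := fun x x' y => e.injective (by
    rw [map_add, he, he, he, map_add, b2_add])
  have hcomm : ∀ x y, β x y = β y x := fun x y => e.injective (by rw [he, he, b2_comm])
  let B₁ : V → (V →ₗ[ZMod 2] V) := fun x => AddMonoidHom.toZModLinearMap 2
    (AddMonoidHom.mk' (β x) fun y y' => by rw [hcomm x, hadd, hcomm y, hcomm y'])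
  let B : V →ₗ[ZMod 2] V →ₗ[ZMod 2] V := AddMonoidHom.toZModLinearMap 2
    (AddMonoidHom.mk' B₁ fun x x' => LinearMap.ext fun y => hadd x x' y)
  refine ⟨B, hcomm, fun x => ?_, fun f x y => ?_⟩
  · show β x x = x
    simp only [β]
    split_ifs with h1
    · rcases h1 with h1 | h1 <;> rw [h1]
    · rfl
  · show β (f x) (f y) = f (β x y)
    simp only [β, f.map_eq_zero_iff, f.injective.eq_iff]
    split_ifs <;> simp

theorem exists_bilin_of_involution [Module.Finite (ZMod 2) V] (s : V →ₗ[ZMod 2] V) (hs : ∀ x, s (s x) = x) :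
    ∃ B : V →ₗ[ZMod 2] V →ₗ[ZMod 2] V, (∀ x y, B x y = B y x) ∧ (∀ x, B x x = x) ∧
      ∀ x y, B (s x) (s y) = s (B x y) := by
  classical
  let N : V →ₗ[ZMod 2] V := LinearMap.id + s
  have hN : ∀ x, N x = x + s x := fun x => rfl
  have hNs : ∀ x, N (s x) = N x := fun x => by rw [hN, hN, hs, add_comm]
  obtain ⟨T, hT⟩ := (LinearMap.ker N).exists_isCompl
  have hU : LinearMap.range N ≤ LinearMap.ker N := by
    rintro _ ⟨x, rfl⟩
    rw [LinearMap.mem_ker, hN x, map_add, hNs]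
    exact ZModModule.add_self _
  obtain ⟨F, hFle, hF⟩ : ∃ F : Submodule (ZMod 2) V, F ≤ LinearMap.ker N ∧
      LinearMap.range N ⊓ F = ⊥ ∧ LinearMap.range N ⊔ F = LinearMap.ker N := by
    obtain ⟨F₀, hF₀⟩ := (LinearMap.range N).exists_isCompl
    refine ⟨F₀ ⊓ LinearMap.ker N, inf_le_right, ?_, ?_⟩
    · rw [← inf_assoc, hF₀.inf_eq_bot, bot_inf_eq]
    · rw [← sup_inf_assoc_of_le _ hU, hF₀.sup_eq_top, top_inf_eq]
  let bF := (Module.finBasis (ZMod 2) F).equivFun.symm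
  let bT := (Module.finBasis (ZMod 2) T).equivFun.symm
  let Φ : ((Fin (Module.finrank (ZMod 2) F) → ZMod 2) ×
      (Fin (Module.finrank (ZMod 2) T) → ZMod 2) × (Fin (Module.finrank (ZMod 2) T) → ZMod 2)) →ₗ[ZMod 2] V :=
    (F.subtype ∘ₗ bF.toLinearMap).coprod
      ((T.subtype ∘ₗ bT.toLinearMap).coprod (s ∘ₗ T.subtype ∘ₗ bT.toLinearMap))
  have hΦ : ∀ f t t', Φ (f, t, t') = (bF f : V) + ((bT t : V) + s (bT t' : V)) := fun f t t' => rfl
  have hinj : Function.Injective Φ := by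
    rw [injective_iff_map_eq_zero]
    rintro ⟨f, t, t'⟩ h
    rw [hΦ] at h
    have h1 := congrArg N h
    rw [map_add, map_add, LinearMap.mem_ker.mp (hFle (bF f).2), hNs, map_zero, zero_add, ← map_add] at h1
    have h2 : (bT t : V) + bT t' = 0 :=
      (Submodule.disjoint_def.mp hT.disjoint) _ h1 (add_mem (bT t).2 (bT t').2)
    have h3 : (bT t' : V) = bT t := by
      rw [add_eq_zero_iff_eq_neg, ZModModule.neg_eq_self] at h2
      exact h2.symm
    rw [h3, ← hN] at h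
    have h4 : (bF f : V) = N (bT t : V) := by
      rw [add_eq_zero_iff_eq_neg, ZModModule.neg_eq_self] at h
      exact h
    have h5 : (bF f : V) = 0 := by
      rw [← Submodule.mem_bot (R := ZMod 2), ← hF.1]
      exact ⟨⟨_, h4.symm⟩, (bF f).2⟩
    have h6 : (bT t : V) = 0 :=
      (Submodule.disjoint_def.mp hT.disjoint) _ (by rw [LinearMap.mem_ker, ← h4, h5]) (bT t).2
    have hf : f = 0 := bF.map_eq_zero_iff.mp (Subtype.ext h5)
    have ht : t = 0 := bT.map_eq_zero_iff.mp (Subtype.ext h6)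
    have ht' : t' = 0 := bT.map_eq_zero_iff.mp (Subtype.ext (h3.trans h6))
    rw [hf, ht, ht']; rfl
  have hsurj : Function.Surjective Φ := by
    intro x
    obtain ⟨k, hk, t₀, ht₀, rfl⟩ := Submodule.mem_sup.mp (hT.sup_eq_top.symm ▸ Submodule.mem_top : x ∈ LinearMap.ker N ⊔ T)
    rw [← hF.2] at hk
    obtain ⟨u, ⟨y, rfl⟩, f, hf, rfl⟩ := Submodule.mem_sup.mp hk
    obtain ⟨k₁, hk₁, t₁, ht₁, rfl⟩ := Submodule.mem_sup.mp (hT.sup_eq_top.symm ▸ Submodule.mem_top : y ∈ LinearMap.ker N ⊔ T)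
    refine ⟨(bF.symm ⟨f, hf⟩, bT.symm ⟨t₁ + t₀, add_mem ht₁ ht₀⟩, bT.symm ⟨t₁, ht₁⟩), ?_⟩
    rw [hΦ]
    simp only [LinearEquiv.apply_symm_apply]
    rw [map_add N k₁ t₁, LinearMap.mem_ker.mp hk₁, zero_add, hN]
    abel
  let e := LinearEquiv.ofBijective Φ ⟨hinj, hsurj⟩
  let μ := LinearMap.mul (ZMod 2) ((Fin (Module.finrank (ZMod 2) F) → ZMod 2) ×
      (Fin (Module.finrank (ZMod 2) T) → ZMod 2) × (Fin (Module.finrank (ZMod 2) T) → ZMod 2))
  let B : V →ₗ[ZMod 2] V →ₗ[ZMod 2] V :=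
    (μ.compl₁₂ e.symm.toLinearMap e.symm.toLinearMap).compr₂ e.toLinearMap
  have hB : ∀ a b, B (e a) (e b) = e (a * b) := fun a b => by simp [B, μ]
  have hse : ∀ a, s (e a) = e (a.1, a.2.2, a.2.1) := by
    rintro ⟨f, t, t'⟩
    show s (Φ _) = Φ _
    rw [hΦ, hΦ, map_add, map_add, hs, add_comm (s (bT t : V))]
    congr 1
    have h0 := LinearMap.mem_ker.mp (hFle (bF f).2)
    rw [hN, add_eq_zero_iff_eq_neg, ZModModule.neg_eq_self] at h0
    exact h0.symm
  have hsq : ∀ c : ZMod 2, c * c = c := by decide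
  refine ⟨B, fun x y => ?_, fun x => ?_, fun x y => ?_⟩
  · obtain ⟨a, rfl⟩ := e.surjective x
    obtain ⟨b, rfl⟩ := e.surjective y
    rw [hB, hB, mul_comm]
  · obtain ⟨a, rfl⟩ := e.surjective x
    rw [hB]
    congr 1
    refine Prod.ext (funext fun i => hsq _) (Prod.ext (funext fun i => hsq _) (funext fun i => hsq _))
  · obtain ⟨a, rfl⟩ := e.surjective x
    obtain ⟨b, rfl⟩ := e.surjective y
    rw [hse, hse, hB, hB, hse]
    rfl

/-- cross product over `𝔽₂` -/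
def cr (a b : Fin 3 → ZMod 2) : Fin 3 → ZMod 2 :=
  ![a 1 * b 2 + a 2 * b 1, a 2 * b 0 + a 0 * b 2, a 0 * b 1 + a 1 * b 0]

theorem cr_surjective : ∀ c : Fin 3 → ZMod 2, ∃ a b, cr a b = c := by decide

theorem cr_eq_cases : ∀ a b a' b' : Fin 3 → ZMod 2, cr a' b' = cr a b →
    cr a b = 0 ∨ (a' = a ∧ b' = b) ∨ (a' = b ∧ b' = a) ∨ (a' = a ∧ b' = a + b) ∨
      (a' = a + b ∧ b' = a) ∨ (a' = b ∧ b' = b + a) ∨ (a' = b + a ∧ b' = b) := by decide

theorem exists_invariant_lift {G : Type u} [Group G] (hV : Module.finrank (ZMod 2) V = 3)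
    (ρ : Representation (ZMod 2) G V) (t : V ⊗[ZMod 2] V) (ht : ∀ g : G, ρ.tprod ρ g t - t ∈ NA V) :
    ∃ t' : V ⊗[ZMod 2] V, t' - t ∈ NA V ∧ ∀ g : G, ρ.tprod ρ g t' - t' ∈ NS V := by
  classical
  haveI : Module.Finite (ZMod 2) V := Module.finite_of_finrank_pos (by omega)
  let b := Module.finBasisOfFinrankEq (ZMod 2) V hV
  let e := b.equivFun
  let Bc : V →ₗ[ZMod 2] V →ₗ[ZMod 2] (Fin 3 → ZMod 2) := LinearMap.mk₂ _ (fun x y => cr (e x) (e y))
    (fun x x' y => by ext i; fin_cases i <;> simp [cr] <;> ring)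
    (fun c x y => by ext i; fin_cases i <;> simp [cr] <;> ring)
    (fun x y y' => by ext i; fin_cases i <;> simp [cr] <;> ring)
    (fun c x y => by ext i; fin_cases i <;> simp [cr] <;> ring)
  let c := TensorProduct.lift Bc
  let Φ : (Fin 3 → ZMod 2) →ₗ[ZMod 2] V ⊗[ZMod 2] V :=
    Fintype.linearCombination (ZMod 2) ![b 1 ⊗ₜ b 2, b 2 ⊗ₜ b 0, b 0 ⊗ₜ b 1]
  have hswap : ∀ x y : V, x ⊗ₜ[ZMod 2] y + y ⊗ₜ x ∈ NA V := fun x y => by
    have h1 : (x + y) ⊗ₜ[ZMod 2] (x + y) - x ⊗ₜ x - y ⊗ₜ y ∈ NA V :=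
      sub_mem (sub_mem (Submodule.subset_span ⟨_, rfl⟩) (Submodule.subset_span ⟨_, rfl⟩))
        (Submodule.subset_span ⟨_, rfl⟩)
    convert h1 using 1
    simp only [TensorProduct.add_tmul, TensorProduct.tmul_add]
    abel
  have hkey : (NA V).mkQ ∘ₗ Φ ∘ₗ c = (NA V).mkQ := by
    refine (b.tensorProduct b).ext fun ⟨i, j⟩ => ?_
    simp only [LinearMap.comp_apply, Module.Basis.tensorProduct_apply, Submodule.mkQ_apply,
      Submodule.Quotient.eq]
    have hc : c (b i ⊗ₜ b j) = cr (Pi.single i 1) (Pi.single j 1) := by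
      simp [c, Bc, e, Module.Basis.equivFun_apply, Finsupp.single_eq_pi_single]
    rw [hc]
    fin_cases i <;> fin_cases j <;> simp [cr, Φ, Fintype.linearCombination_apply, Fin.sum_univ_three,
      Submodule.neg_mem_iff] <;>
      first
        | exact Submodule.subset_span ⟨_, rfl⟩
        | (rw [ZModModule.sub_eq_add]; exact hswap _ _)
  obtain ⟨a₀, b₀, hab⟩ := cr_surjective (c t)
  obtain ⟨x, rfl⟩ := e.surjective a₀
  obtain ⟨y, rfl⟩ := e.surjective b₀
  have hcxy : c (x ⊗ₜ y) = c t := hab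
  have hmod : x ⊗ₜ[ZMod 2] y - t ∈ NA V := by
    rw [← Submodule.Quotient.eq]
    have h1 := LinearMap.congr_fun hkey (x ⊗ₜ y)
    have h2 := LinearMap.congr_fun hkey t
    simp only [LinearMap.comp_apply, Submodule.mkQ_apply] at h1 h2
    rw [← h1, ← h2, hcxy]
  by_cases h0 : c t = 0
  · refine ⟨0, ?_, fun g => by simp⟩
    have h2 := LinearMap.congr_fun hkey t
    simp only [LinearMap.comp_apply, Submodule.mkQ_apply, h0, map_zero] at h2
    rw [zero_sub, Submodule.neg_mem_iff, ← Submodule.Quotient.mk_eq_zero]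
    simpa using h2.symm
  let σ : V → V → V ⊗[ZMod 2] V := fun x y => x ⊗ₜ y + x ⊗ₜ x + y ⊗ₜ y
  refine ⟨σ x y, ?_, fun g => ?_⟩
  · have h3 := add_mem (add_mem hmod (Submodule.subset_span (R := ZMod 2) ⟨x, rfl⟩))
      (Submodule.subset_span (R := ZMod 2) ⟨y, rfl⟩)
    convert h3 using 1
    simp only [σ]; abel
  have hgxy : ρ.tprod ρ g (σ x y) = σ (ρ g x) (ρ g y) := by
    simp only [σ, map_add]
    rfl
  have hcNA : NA V ≤ LinearMap.ker c := by
    rw [Submodule.span_le]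
    rintro _ ⟨v, rfl⟩
    ext i
    fin_cases i <;> simp [c, Bc, cr, mul_comm, ZModModule.add_self]
  have hcg : cr (e (ρ g x)) (e (ρ g y)) = cr (e x) (e y) := by
    show c ((ρ g x) ⊗ₜ (ρ g y)) = c (x ⊗ₜ y)
    have h4 : ρ.tprod ρ g (x ⊗ₜ y) - x ⊗ₜ y ∈ NA V := by
      have hst : ∀ a ∈ NA V, ρ.tprod ρ g a ∈ NA V := by
        intro a ha
        induction ha using Submodule.span_induction with
        | mem z hz => obtain ⟨v, rfl⟩ := hz; exact Submodule.subset_span ⟨ρ g v, rfl⟩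
        | zero => simp
        | add z z' _ _ h h' => rw [map_add]; exact add_mem h h'
        | smul r z _ h => rw [map_smul]; exact Submodule.smul_mem _ _ h
      have h5 := sub_mem (add_mem (hst _ hmod) (ht g)) hmod
      convert h5 using 1
      rw [map_sub]; abel
    have h6 := LinearMap.mem_ker.mp (hcNA h4)
    rw [map_sub, sub_eq_zero] at h6
    exact h6
  have hsym : ∀ u w : V, σ u w - σ w u ∈ NS V := fun u w => by
    have h7 : u ⊗ₜ[ZMod 2] w + w ⊗ₜ u ∈ NS V := Submodule.subset_span ⟨(u, w), rfl⟩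
    convert h7 using 1
    simp only [σ, ← ZModModule.sub_eq_add (u ⊗ₜ[ZMod 2] w) (w ⊗ₜ u)]
    abel
  have hsh : ∀ u w : V, σ u (u + w) = σ w u := fun u w => by
    have h2 : ∀ a : V ⊗[ZMod 2] V, a + a = 0 := fun a => ZModModule.add_self a
    calc σ u (u + w) = (u ⊗ₜ[ZMod 2] u + u ⊗ₜ u) + (u ⊗ₜ w + u ⊗ₜ w) + σ w u := by
          simp only [σ, TensorProduct.add_tmul, TensorProduct.tmul_add]; abel
      _ = σ w u := by rw [h2, h2, zero_add, zero_add]
  rw [hgxy]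
  rcases cr_eq_cases _ _ _ _ hcg with h | ⟨h1, h2⟩ | ⟨h1, h2⟩ | ⟨h1, h2⟩ | ⟨h1, h2⟩ | ⟨h1, h2⟩ | ⟨h1, h2⟩
  · exact absurd (hcxy.symm.trans h) h0
  all_goals
    simp only [← map_add, e.injective.eq_iff] at h1 h2
    rw [h1, h2]
  · simp
  · exact hsym y x
  · rw [hsh]; exact hsym y x
  · have h8 := add_mem (hsym (x + y) x) (hsym y x)
    rw [hsh x y, sub_add_sub_cancel] at h8
    exact h8
  · rw [hsh]; simp
  · have h8 := hsym (y + x) y
    rwa [hsh] at h8

end Groth.Agent.H18Sym2
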